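import Mathlib.AlgebraicGeometry.Morphisms.Finite
import Mathlib.AlgebraicGeometry.Fiber
import Mathlib.RingTheory.Jacobson.Ring
import Mathlib.RingTheory.Algebraic.Integral
import Mathlib.FieldTheory.Finiteness
import Mathlib.RingTheory.HopkinsLevitzki

/-! Points of finite type. -/

open AlgebraicGeometry CategoryTheory TopologicalSpace
open scoped Pointwise

universe u

namespace Groth.Agent.FtPtsLib

/-- If a field is a finitely generated algebra over `R` then the kernel is maximal away from some element. -/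
theorem exists_maximal_away {R K : Type u} [CommRing R] [Field K] [Algebra R K] [Algebra.FiniteType R K] :
    ∃ g : R, algebraMap R K g ≠ 0 ∧ ∀ q : Ideal R, q.IsPrime → RingHom.ker (algebraMap R K) ≤ q →
      g ∉ q → q = RingHom.ker (algebraMap R K) := by
  classical
  let p := RingHom.ker (algebraMap R K)
  haveI : p.IsPrime := RingHom.ker_isPrime _
  let A := R ⧸ p
  letI : Algebra A K := (RingHom.kerLift (algebraMap R K)).toAlgebra
  haveI : IsScalarTower R A K := IsScalarTower.of_algebraMap_eq fun _ => rfl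
  have hinj : Function.Injective (algebraMap A K) := RingHom.kerLift_injective _
  haveI : Module.IsTorsionFree A K := Module.isTorsionFree_iff_algebraMap_injective.2 hinj
  haveI : Algebra.FiniteType A K := Algebra.FiniteType.of_restrictScalars_finiteType R A K
  let L := FractionRing A
  letI : Algebra L K := (IsFractionRing.lift hinj).toAlgebra
  haveI : IsScalarTower A L K := IsScalarTower.of_algebraMap_eq fun a =>
    (IsFractionRing.lift_algebraMap hinj a).symm
  haveI : Algebra.FiniteType L K := Algebra.FiniteType.of_restrictScalars_finiteType A L K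
  haveI : Module.Finite L K := finite_of_finite_type_of_isJacobsonRing L K
  obtain ⟨s, hs⟩ := (‹Algebra.FiniteType A K› : Algebra.FiniteType A K).out
  have hden : ∀ x : K, ∃ y : A, y ≠ 0 ∧ IsIntegral A (y • x) := fun x =>
    ((IsFractionRing.isAlgebraic_iff A L K).mpr (Algebra.IsAlgebraic.isAlgebraic x)).exists_integral_multiple
  choose y hy hint using hden
  obtain ⟨g, hg⟩ := Ideal.Quotient.mk_surjective (∏ x ∈ s, y x)
  have hg0 : (∏ x ∈ s, y x) ≠ 0 := Finset.prod_ne_zero_iff.2 fun x _ => hy x
  refine ⟨g, fun h => hg0 (hg ▸ Ideal.Quotient.eq_zero_iff_mem.2 h), fun q hq hpq hgq => le_antisymm ?_ hpq⟩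
  let G : A := ∏ x ∈ s, y x
  let A' : Subalgebra A K := Algebra.adjoin A {(algebraMap A K G)⁻¹}
  have hGne : algebraMap A K G ≠ 0 := (map_ne_zero_iff _ hinj).2 hg0
  have hint' : Algebra.IsIntegral A' K := by
    refine Algebra.IsIntegral.mk fun x => ?_
    have hx : x ∈ Algebra.adjoin A (s : Set K) := hs ▸ Algebra.mem_top
    induction hx using Algebra.adjoin_induction with
    | mem x hx =>
      have h1 : IsIntegral A' (algebraMap A K G * x) := by
        have hG : algebraMap A K G * x = algebraMap A K (∏ z ∈ s.erase x, y z) * (y x • x) := by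
          rw [Algebra.smul_def, ← mul_assoc, ← map_mul, Finset.prod_erase_mul s y hx]
        exact hG.symm ▸ (isIntegral_algebraMap.mul (hint x)).tower_top
      have h2 : IsIntegral A' ((algebraMap A K G)⁻¹) :=
        isIntegral_algebraMap (x := (⟨_, Algebra.self_mem_adjoin_singleton A _⟩ : A'))
      have := h2.mul h1
      rwa [← mul_assoc, inv_mul_cancel₀ hGne, one_mul] at this
    | algebraMap r => exact (isIntegral_algebraMap (A := K) (x := r)).tower_top
    | add x y _ _ hx hy => exact hx.add hy
    | mul x y _ _ hx hy => exact hx.mul hy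
  have hfield : IsField A' := isField_of_isIntegral_of_isField (Subtype.val_injective (p := (· ∈ A'))) (Field.toIsField K)
  intro a haq
  by_contra hap
  have ha0 : (⟨algebraMap A K (Ideal.Quotient.mk p a), A'.algebraMap_mem _⟩ : A') ≠ 0 := by
    intro h
    exact hap (Ideal.Quotient.eq_zero_iff_mem.1 (hinj ((congrArg Subtype.val h).trans (map_zero _).symm)))
  obtain ⟨b, hb⟩ := hfield.mul_inv_cancel ha0
  have hmul : ∀ z ∈ A', ∃ (n : ℕ) (c : A), algebraMap A K G ^ n * z = algebraMap A K c := by
    intro z hz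
    induction hz using Algebra.adjoin_induction with
    | mem x hx => rw [Set.mem_singleton_iff] at hx; subst hx; exact ⟨1, 1, by rw [pow_one, mul_inv_cancel₀ hGne, map_one]⟩
    | algebraMap r => exact ⟨0, r, by simp⟩
    | add x y _ _ hx hy =>
      obtain ⟨m, c, hc⟩ := hx
      obtain ⟨n, d, hd⟩ := hy
      refine ⟨m + n, c * G ^ n + d * G ^ m, ?_⟩
      rw [map_add, map_mul, map_mul, map_pow, map_pow, ← hc, ← hd, pow_add]
      ring
    | mul x y _ _ hx hy =>
      obtain ⟨m, c, hc⟩ := hx
      obtain ⟨n, d, hd⟩ := hy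
      refine ⟨m + n, c * d, ?_⟩
      rw [map_mul, ← hc, ← hd, pow_add]
      ring
  obtain ⟨n, c, hc⟩ := hmul b.1 b.2
  obtain ⟨c₀, rfl⟩ := Ideal.Quotient.mk_surjective c
  have key : algebraMap R K (g ^ n) = algebraMap R K (a * c₀) := by
    have hb' : algebraMap A K (Ideal.Quotient.mk p a) * b.1 = 1 := congrArg Subtype.val hb
    have h1 : algebraMap R K g = algebraMap A K G := by
      show _ = algebraMap A K G
      rw [show G = Ideal.Quotient.mk p g from hg.symm]
      exact IsScalarTower.algebraMap_apply R A K g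
    rw [map_pow, h1, map_mul, IsScalarTower.algebraMap_apply R A K a, IsScalarTower.algebraMap_apply R A K c₀]
    calc algebraMap A K G ^ n = algebraMap A K G ^ n * (algebraMap A K (Ideal.Quotient.mk p a) * b.1) := by
          rw [hb', mul_one]
      _ = algebraMap A K (Ideal.Quotient.mk p a) * (algebraMap A K G ^ n * b.1) := by ring
      _ = _ := by rw [hc]; rfl
  have hmem : g ^ n - a * c₀ ∈ q := hpq (by rw [RingHom.mem_ker, map_sub, key, sub_self])
  have : g ^ n ∈ q := by simpa using q.add_mem hmem (q.mul_mem_right c₀ haq)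
  exact hgq (hq.mem_of_pow_mem n this)

variable {S : Scheme.{u}}

/-- Being closed in some affine neighbourhood. -/
def ClosedInAffine (s : S) : Prop :=
  ∃ U : S.Opens, IsAffineOpen U ∧ ∃ hs : s ∈ U, IsClosed ({⟨s, hs⟩} : Set ↥U)

theorem lft_fromSpec_of_closedInAffine {s : S} (h : ClosedInAffine s) :
    LocallyOfFiniteType (S.fromSpecResidueField s) := by
  obtain ⟨U, -, hs, hcl⟩ := h
  haveI : IsClosedImmersion (U.toScheme.fromSpecResidueField ⟨s, hs⟩) :=
    isClosed_singleton_iff_isClosedImmersion.1 hcl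
  haveI : LocallyOfFiniteType (Spec.map (U.ι.residueFieldMap ⟨s, hs⟩) ≫ S.fromSpecResidueField (U.ι ⟨s, hs⟩)) := by
    rw [Scheme.Hom.SpecMap_residueFieldMap_fromSpecResidueField]
    infer_instance
  exact (MorphismProperty.cancel_left_of_respectsIso (P := @LocallyOfFiniteType)
    (Spec.map (U.ι.residueFieldMap ⟨s, hs⟩)) _).1 this

theorem closedInAffine_of_lft {k : Type u} [Field k] (f : Spec (CommRingCat.of k) ⟶ S) [LocallyOfFiniteType f] :
    ClosedInAffine (f (IsLocalRing.closedPoint k)) := by
  obtain ⟨V, hV, hxV, -⟩ := exists_isAffineOpen_mem_and_subset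
    (x := f (IsLocalRing.closedPoint k)) (U := (⊤ : S.Opens)) (by simp)
  have hr : Set.range f ⊆ (V : Set S) := by
    rintro _ ⟨y, rfl⟩
    rwa [Subsingleton.elim y (IsLocalRing.closedPoint k)]
  let f' := IsOpenImmersion.lift hV.fromSpec f (by rwa [hV.range_fromSpec])
  have hf : f' ≫ hV.fromSpec = f := IsOpenImmersion.lift_fac ..
  obtain ⟨φ, hφ⟩ := Spec.map_surjective f'
  haveI : LocallyOfFiniteType (f' ≫ hV.fromSpec) := by rwa [hf]
  haveI : LocallyOfFiniteType f' := locallyOfFiniteType_of_comp f' hV.fromSpec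
  have hft : φ.hom.FiniteType := by
    rw [← HasRingHomProperty.Spec_iff (P := @LocallyOfFiniteType), hφ]
    infer_instance
  letI := φ.hom.toAlgebra
  haveI : Algebra.FiniteType Γ(S, V) k := hft
  obtain ⟨g, hg, hmax⟩ := exists_maximal_away (R := Γ(S, V)) (K := k)
  have hpt : hV.fromSpec (Spec.map φ (IsLocalRing.closedPoint k)) = f (IsLocalRing.closedPoint k) := by
    rw [← hf, ← hφ]; rfl
  have hasI : (Spec.map φ (IsLocalRing.closedPoint k)).asIdeal = RingHom.ker φ.hom := by
    show Ideal.comap φ.hom (IsLocalRing.maximalIdeal k) = _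
    rw [IsLocalRing.maximalIdeal_eq_bot, RingHom.ker_eq_comap_bot]
  have hmemb : f (IsLocalRing.closedPoint k) ∈ S.basicOpen g := by
    rw [← hpt]
    have : Spec.map φ (IsLocalRing.closedPoint k) ∈ PrimeSpectrum.basicOpen g := by
      show g ∉ (Spec.map φ (IsLocalRing.closedPoint k)).asIdeal
      rw [hasI]
      exact hg
    rw [← hV.fromSpec_preimage_basicOpen] at this
    exact this
  refine ⟨S.basicOpen g, hV.basicOpen g, hmemb, ?_⟩
  have hcl : closure {f (IsLocalRing.closedPoint k)} ∩ (S.basicOpen g : Set S) ⊆ {f (IsLocalRing.closedPoint k)} := by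
    rintro y ⟨hy, hyb⟩
    obtain ⟨w, rfl⟩ : y ∈ Set.range hV.fromSpec := by
      rw [hV.range_fromSpec]
      exact S.basicOpen_le g hyb
    rw [← hpt] at hy ⊢
    have hsp : Spec.map φ (IsLocalRing.closedPoint k) ⤳ w :=
      hV.fromSpec.isOpenEmbedding.isInducing.specializes_iff.1 (specializes_iff_mem_closure.2 hy)
    have hwb : g ∉ w.asIdeal := by
      have : w ∈ hV.fromSpec ⁻¹ᵁ S.basicOpen g := hyb
      rw [hV.fromSpec_preimage_basicOpen] at this
      exact this
    have hle := (PrimeSpectrum.le_iff_specializes _ w).2 hsp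
    have hw : w = Spec.map φ (IsLocalRing.closedPoint k) := PrimeSpectrum.ext
      ((hmax w.asIdeal w.isPrime (hasI ▸ hle) hwb).trans hasI.symm)
    rw [hw]
    exact Set.mem_singleton _
  rw [show ({⟨f (IsLocalRing.closedPoint k), hmemb⟩} : Set ↥(S.basicOpen g))
      = Subtype.val ⁻¹' closure {f (IsLocalRing.closedPoint k)} from Set.ext fun z =>
      ⟨fun hz => by
        rw [Set.mem_singleton_iff] at hz
        exact hz ▸ subset_closure (Set.mem_singleton _), fun hz => Subtype.ext (hcl ⟨hz, z.2⟩)⟩]
  exact isClosed_closure.preimage continuous_subtype_val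

theorem lft_fromSpec_iff (s : S) : LocallyOfFiniteType (S.fromSpecResidueField s) ↔ ClosedInAffine s := by
  refine ⟨fun h => ?_, lft_fromSpec_of_closedInAffine⟩
  haveI := h
  have := closedInAffine_of_lft (k := S.residueField s) (S.fromSpecResidueField s)
  exact Scheme.fromSpecResidueField_apply s (IsLocalRing.closedPoint (S.residueField s)) ▸ this

theorem lft_fromSpec_image {T : Scheme.{u}} (f : T ⟶ S) [LocallyOfFiniteType f] {t : T}
    (ht : LocallyOfFiniteType (T.fromSpecResidueField t)) : LocallyOfFiniteType (S.fromSpecResidueField (f t)) := by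
  haveI := ht
  have := closedInAffine_of_lft (k := T.residueField t) (T.fromSpecResidueField t ≫ f)
  have e : (T.fromSpecResidueField t ≫ f) (IsLocalRing.closedPoint (T.residueField t)) = f t :=
    congrArg f (Scheme.fromSpecResidueField_apply t (IsLocalRing.closedPoint (T.residueField t)))
  exact lft_fromSpec_of_closedInAffine (e ▸ this)

theorem lft_field_iff {k : Type u} [Field k] (f : Spec (CommRingCat.of k) ⟶ S) :
    LocallyOfFiniteType f ↔ ClosedInAffine (f (IsLocalRing.closedPoint k)) ∧
      (f.residueFieldMap (IsLocalRing.closedPoint k)).hom.Finite := by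
  set j := (Spec (CommRingCat.of k)).fromSpecResidueField (IsLocalRing.closedPoint k)
  haveI : IsClosedImmersion j :=
    isClosed_singleton_iff_isClosedImmersion.1 (IsLocalRing.isClosed_singleton_closedPoint _)
  haveI : Surjective j := ⟨fun y => ⟨IsLocalRing.closedPoint _, Subsingleton.elim _ _⟩⟩
  haveI : IsIso j := isIso_of_isClosedImmersion_of_surjective j
  have hiff : LocallyOfFiniteType f ↔ LocallyOfFiniteType (Spec.map (f.residueFieldMap (IsLocalRing.closedPoint k))
      ≫ S.fromSpecResidueField (f (IsLocalRing.closedPoint k))) := by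
    rw [Scheme.Hom.SpecMap_residueFieldMap_fromSpecResidueField]
    exact (MorphismProperty.cancel_left_of_respectsIso (P := @LocallyOfFiniteType) j f).symm
  constructor
  · intro h
    haveI := h
    haveI := hiff.1 h
    refine ⟨closedInAffine_of_lft f, ?_⟩
    haveI := locallyOfFiniteType_of_comp (Spec.map (f.residueFieldMap (IsLocalRing.closedPoint k)))
      (S.fromSpecResidueField (f (IsLocalRing.closedPoint k)))
    have hft := (HasRingHomProperty.Spec_iff (P := @LocallyOfFiniteType)
      (φ := f.residueFieldMap (IsLocalRing.closedPoint k))).1 ‹_›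
    exact RingHom.finite_iff_finiteType_of_isJacobsonRing.2 hft
  · rintro ⟨h1, h2⟩
    haveI := lft_fromSpec_of_closedInAffine h1
    haveI : LocallyOfFiniteType (Spec.map (f.residueFieldMap (IsLocalRing.closedPoint k))) :=
      (HasRingHomProperty.Spec_iff (P := @LocallyOfFiniteType)).2 h2.finiteType
    exact hiff.2 inferInstance

theorem exists_mem_of_isLocallyClosed {Z : Set S} (hZ : IsLocallyClosed Z) (hne : Z.Nonempty) :
    (Z ∩ {s : S | LocallyOfFiniteType (S.fromSpecResidueField s)}).Nonempty := by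
  obtain ⟨U, C, hU, hC, rfl⟩ := hZ
  obtain ⟨z, hzU, hzC⟩ := hne
  obtain ⟨V, hV, hzV, hVU⟩ := exists_isAffineOpen_mem_and_subset (x := z) (U := ⟨U, hU⟩) hzU
  haveI : CompactSpace ↥(V : Set S) := isCompact_iff_compactSpace.1 hV.isCompact
  obtain ⟨w, hwC, hwcl⟩ := (hC.preimage continuous_subtype_val : IsClosed ((Subtype.val : ↥(V : Set S) → S) ⁻¹' C)).exists_closed_singleton
    ⟨⟨z, hzV⟩, hzC⟩
  exact ⟨w.1, ⟨hVU w.2, hwC⟩, lft_fromSpec_of_closedInAffine ⟨V, hV, w.2, hwcl⟩⟩

theorem exists_preimage_of_surjective {T : Scheme.{u}} (f : T ⟶ S) [LocallyOfFiniteType f] [Surjective f]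
    {s : S} (hs : LocallyOfFiniteType (S.fromSpecResidueField s)) :
    ∃ t : T, LocallyOfFiniteType (T.fromSpecResidueField t) ∧ f t = s := by
  obtain ⟨t₀, rfl⟩ := f.surjective s
  haveI := hs
  haveI : Nonempty ↥(f.fiber (f t₀)) := ⟨f.asFiber t₀⟩
  obtain ⟨z, hz⟩ : (closedPoints ↥(f.fiber (f t₀))).Nonempty := nonempty_inter_closedPoints
    (Z := Set.univ) Set.univ_nonempty isClosed_univ.isLocallyClosed |>.mono Set.inter_subset_right
  haveI : IsClosedImmersion ((f.fiber (f t₀)).fromSpecResidueField z) := isClosed_singleton_iff_isClosedImmersion.1 hz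
  haveI : LocallyOfFiniteType (f.fiberι (f t₀)) :=
    MorphismProperty.pullback_fst (P := @LocallyOfFiniteType) f (S.fromSpecResidueField (f t₀)) hs
  refine ⟨f.fiberι (f t₀) z, lft_fromSpec_image (f.fiberι (f t₀)) inferInstance, ?_⟩
  have : f.fiberι (f t₀) z ∈ Set.range (f.fiberι (f t₀)) := ⟨z, rfl⟩
  rw [Scheme.Hom.range_fiberι] at this
  exact this

theorem finiteType_of_surj_mod_nilpotent {R A : Type u} [CommRing R] [CommRing A] [Algebra R A]
    (m : Ideal A) (hm : IsNilpotent m) (hfg : m.FG) [Algebra.FiniteType R (A ⧸ m)] :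
    Algebra.FiniteType R A := by
  classical
  obtain ⟨s, hs⟩ := (‹Algebra.FiniteType R (A ⧸ m)› : Algebra.FiniteType R (A ⧸ m)).out
  obtain ⟨t, ht⟩ := hfg
  let σ : A ⧸ m → A := Function.surjInv Ideal.Quotient.mk_surjective
  refine ⟨⟨s.image σ ∪ t, top_le_iff.1 ?_⟩⟩
  set B := Algebra.adjoin R (↑(s.image σ ∪ t) : Set A)
  have hsurj : ∀ a : A, ∃ b ∈ B, a - b ∈ m := by
    intro a
    have ha : Ideal.Quotient.mk m a ∈ Algebra.adjoin R (s : Set (A ⧸ m)) := hs ▸ Algebra.mem_top
    have hle : Algebra.adjoin R (s : Set (A ⧸ m)) ≤ B.map (Ideal.Quotient.mkₐ R m) := by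
      rw [Algebra.adjoin_le_iff]
      intro x hx
      exact ⟨σ x, Algebra.subset_adjoin (Finset.mem_coe.2 (Finset.mem_union_left _ (Finset.mem_image_of_mem σ hx))),
        Function.surjInv_eq Ideal.Quotient.mk_surjective x⟩
    obtain ⟨b, hb, hba⟩ := hle ha
    exact ⟨b, hb, Ideal.Quotient.eq.1 hba.symm⟩
  have step : ∀ n : ℕ, ∀ a : A, ∃ b ∈ B, a - b ∈ m ^ n := by
    intro n
    induction n with
    | zero => exact fun a => ⟨0, B.zero_mem, by simp⟩
    | succ n ih =>
      intro a
      obtain ⟨b, hb, hab⟩ := ih a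
      suffices h : ∀ x ∈ m ^ n, ∃ c ∈ B, x - c ∈ m ^ (n + 1) by
        obtain ⟨c, hc, hxc⟩ := h _ hab
        exact ⟨b + c, B.add_mem hb hc, by rwa [sub_add_eq_sub_sub]⟩
      intro x hx
      cases n with
      | zero => simpa using hsurj x
      | succ n =>
        have hx' : x ∈ Ideal.span (↑t : Set A) ^ (n + 1) := by rwa [show Ideal.span (↑t : Set A) = m from ht]
        rw [Ideal.span, Submodule.span_pow] at hx'
        refine Submodule.span_induction (p := fun x _ => ∃ c ∈ B, x - c ∈ m ^ (n + 1 + 1)) ?_ ?_ ?_ ?_ hx'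
        · intro y hy
          have hyB : y ∈ B := by
            have : (↑t : Set A) ^ (n + 1) ⊆ (B.toSubmonoid : Set A) := by
              intro z hz
              rw [Set.mem_pow] at hz
              obtain ⟨f, rfl⟩ := hz
              refine Submonoid.list_prod_mem _ fun w hw => ?_
              rw [List.mem_ofFn] at hw
              obtain ⟨i, rfl⟩ := hw
              exact Algebra.subset_adjoin (Finset.mem_coe.2 (Finset.mem_union_right _ (f i).2))
            exact this hy
          exact ⟨y, hyB, by simp⟩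
        · exact ⟨0, B.zero_mem, by simp⟩
        · rintro y z _ _ ⟨c, hc, hyc⟩ ⟨d, hd, hzd⟩
          exact ⟨c + d, B.add_mem hc hd, by rw [add_sub_add_comm]; exact add_mem hyc hzd⟩
        · rintro r y hy ⟨c, hc, hyc⟩
          obtain ⟨r', hr', hrr⟩ := hsurj r
          refine ⟨r' * c, B.mul_mem hr' hc, ?_⟩
          have hy' : y ∈ m ^ (n + 1) := by
            rw [← show Ideal.span (↑t : Set A) = m from ht, Ideal.span, Submodule.span_pow]
            exact hy
          have e : r • y - r' * c = (r - r') * y + r' * (y - c) := by rw [smul_eq_mul]; ring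
          rw [e]
          refine add_mem ?_ (Ideal.mul_mem_left _ _ hyc)
          rw [pow_succ' m (n + 1)]
          exact Ideal.mul_mem_mul hrr hy'
  intro a _
  obtain ⟨N, hN⟩ := hm
  obtain ⟨b, hb, hab⟩ := step N a
  rw [hN, Ideal.zero_eq_bot, Ideal.mem_bot, sub_eq_zero] at hab
  exact hab ▸ hb

theorem lft_artinian_iff {A : Type u} [CommRing A] [IsArtinianRing A] [IsLocalRing A]
    (f : Spec (CommRingCat.of A) ⟶ S) :
    LocallyOfFiniteType f ↔
      LocallyOfFiniteType (Spec.map (CommRingCat.ofHom (IsLocalRing.residue A)) ≫ f) := by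
  have hres : LocallyOfFiniteType (Spec.map (CommRingCat.ofHom (IsLocalRing.residue A))) :=
    (HasRingHomProperty.Spec_iff (P := @LocallyOfFiniteType)).2
      (RingHom.FiniteType.of_surjective _ Ideal.Quotient.mk_surjective)
  constructor
  · intro h
    infer_instance
  · intro h
    obtain ⟨V, hV, hxV, -⟩ := exists_isAffineOpen_mem_and_subset
      (x := f (IsLocalRing.closedPoint A)) (U := (⊤ : S.Opens)) (by simp)
    have hr : Set.range f ⊆ (V : Set S) := by
      rintro _ ⟨y, rfl⟩
      rwa [show y = IsLocalRing.closedPoint A from PrimeSpectrum.ext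
        (IsLocalRing.eq_maximalIdeal (IsArtinianRing.isMaximal_of_isPrime y.asIdeal))]
    let f' := IsOpenImmersion.lift hV.fromSpec f (by rwa [hV.range_fromSpec])
    have hf : f' ≫ hV.fromSpec = f := IsOpenImmersion.lift_fac ..
    obtain ⟨φ, hφ⟩ := Spec.map_surjective f'
    rw [← hf, ← Category.assoc] at h
    haveI := h
    have h' : LocallyOfFiniteType (Spec.map (CommRingCat.ofHom (IsLocalRing.residue A)) ≫ f') :=
      locallyOfFiniteType_of_comp _ hV.fromSpec
    rw [← hφ, ← Spec.map_comp, HasRingHomProperty.Spec_iff (P := @LocallyOfFiniteType)] at h'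
    letI := φ.hom.toAlgebra
    haveI : Algebra.FiniteType Γ(S, V) (A ⧸ IsLocalRing.maximalIdeal A) := by
      exact h'
    haveI : Algebra.FiniteType Γ(S, V) A := finiteType_of_surj_mod_nilpotent (IsLocalRing.maximalIdeal A)
      (by rw [← IsLocalRing.jacobson_eq_maximalIdeal (⊥ : Ideal A) bot_ne_top]; exact IsArtinianRing.isNilpotent_jacobson_bot)
      (IsNoetherian.noetherian _)
    haveI : LocallyOfFiniteType f' := by
      rw [← hφ]
      exact (HasRingHomProperty.Spec_iff (P := @LocallyOfFiniteType)).2 ‹Algebra.FiniteType Γ(S, V) A›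
    rw [← hf]
    infer_instance

end Groth.Agent.FtPtsLib
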